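import Mathlib.AlgebraicGeometry.Sites.SmallAffineZariski
import Mathlib.CategoryTheory.Sites.DenseSubsite.InducedTopology

/-!
# Sheaves on the basis of affine opens from glueing over pairs of basic opens
-/

set_option autoImplicit false
set_option linter.style.haveILetI false
set_option backward.isDefEq.respectTransparency.types false

universe u

open CategoryTheory CategoryTheory.Limits AlgebraicGeometry Opposite TopologicalSpace

namespace Groth.L24.AffBasis

variable {X : Scheme.{u}} (F : (X.affineOpens)ᵒᵖ ⥤ Type u)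

/-- Restriction. -/
abbrev rs {U V : X.affineOpens} (h : V ≤ U) (s : F.obj (op U)) : F.obj (op V) :=
  F.map (homOfLE h).op s

theorem rs_rs {U V W : X.affineOpens} (h : V ≤ U) (h' : W ≤ V) (s : F.obj (op U)) :
    rs F h' (rs F h s) = rs F (h'.trans h) s :=
  (ConcreteCategory.congr_hom (F.map_comp (homOfLE h).op (homOfLE h').op) s).symm

/-- A basic open of an affine open. -/
abbrev bas (U : X.affineOpens) (f : Γ(X, (U : X.Opens))) : X.affineOpens :=
  ⟨X.basicOpen f, U.2.basicOpen f⟩

theorem bas_le (U : X.affineOpens) (f : Γ(X, (U : X.Opens))) : bas U f ≤ U := X.basicOpen_le f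

/-- The hypotheses: the empty open gives a point and pairs glue. -/
structure PairGlue : Prop where
  empty : ∀ E : X.affineOpens, (E : X.Opens) = ⊥ → Nonempty (F.obj (op E)) ∧ Subsingleton (F.obj (op E))
  pair : ∀ (U : X.affineOpens) (f g : Γ(X, (U : X.Opens))), (U : X.Opens) ≤ X.basicOpen f ⊔ X.basicOpen g →
    ∀ (a : F.obj (op (bas U f))) (b : F.obj (op (bas U g))),
      rs F (show bas U (f * g) ≤ bas U f by show X.basicOpen (f * g) ≤ X.basicOpen f; simp) a =
        rs F (show bas U (f * g) ≤ bas U g by show X.basicOpen (f * g) ≤ X.basicOpen g; simp) b →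
      ∃! x : F.obj (op U), rs F (bas_le U f) x = a ∧ rs F (bas_le U g) x = b

variable {F}

theorem span_res_eq_top {U U' : X.affineOpens} {n : ℕ} (f : Fin n → Γ(X, (U : X.Opens))) (c : Fin n → Γ(X, (U : X.Opens)))
    (h : (U' : X.Opens) ≤ X.basicOpen (∑ i, c i * f i)) :
    Ideal.span (Set.range fun i => X.presheaf.map (homOfLE (h.trans (X.basicOpen_le _))).op (f i)) = ⊤ := by
  refine Ideal.eq_top_of_isUnit_mem _ (x := X.presheaf.map (homOfLE (h.trans (X.basicOpen_le _))).op (∑ i, c i * f i))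
    ?_ ?_
  · rw [map_sum]
    refine Ideal.sum_mem _ fun i _ => ?_
    rw [map_mul]
    exact Ideal.mul_mem_left _ _ (Ideal.subset_span ⟨i, rfl⟩)
  · have hu := (X.toRingedSpace.isUnit_res_basicOpen (∑ i, c i * f i)).map (X.presheaf.map (homOfLE h).op).hom
    convert! hu using 1
    exact ConcreteCategory.congr_hom (X.presheaf.map_comp (homOfLE (X.basicOpen_le _)).op (homOfLE h).op) _

/-- Families on standard covers glue uniquely. -/
theorem glue (P : PairGlue F) : ∀ (n : ℕ) (U : X.affineOpens) (f : Fin n → Γ(X, (U : X.Opens))),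
    Ideal.span (Set.range f) = ⊤ → ∀ s : ∀ i, F.obj (op (bas U (f i))),
      (∀ i j (W : X.affineOpens) (hi : W ≤ bas U (f i)) (hj : W ≤ bas U (f j)), rs F hi (s i) = rs F hj (s j)) →
      ∃! x : F.obj (op U), ∀ i, rs F (bas_le U (f i)) x = s i := by
  intro n
  induction n with
  | zero =>
    intro U f hf s _
    have h0 : (U : X.Opens) = ⊥ := by
      refine le_bot_iff.mp ((U.2.self_le_iSup_basicOpen_iff.mpr hf).trans (iSup_le fun x => ?_))
      obtain ⟨_, i, -⟩ := x
      exact i.elim0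
    obtain ⟨⟨x⟩, hs⟩ := P.empty U h0
    exact ⟨x, fun i => i.elim0, fun y _ => Subsingleton.elim _ _⟩
  | succ n IH =>
    intro U f hf s hc
    obtain ⟨c, hcs⟩ := (Ideal.mem_span_range_iff_exists_fun (v := f) (x := 1)).mp (by rw [hf]; trivial)
    let g : Γ(X, (U : X.Opens)) := ∑ i : Fin n, c i.succ * f i.succ
    have hcover : (U : X.Opens) ≤ X.basicOpen (f 0) ⊔ X.basicOpen g := by
      have hspan : Ideal.span ({f 0, g} : Set Γ(X, (U : X.Opens))) = ⊤ := by
        refine (Ideal.eq_top_iff_one _).mpr (Ideal.mem_span_pair.mpr ⟨c 0, 1, ?_⟩)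
        rw [one_mul, ← hcs, Fin.sum_univ_succ]
      refine (U.2.self_le_iSup_basicOpen_iff.mpr hspan).trans (iSup_le ?_)
      rintro ⟨x, rfl | rfl⟩
      · exact le_sup_left
      · exact le_sup_right
    let Ug := bas U g
    let f' : Fin n → Γ(X, (Ug : X.Opens)) := fun i => X.presheaf.map (homOfLE (bas_le U g)).op (f i.succ)
    have le' : ∀ i, bas Ug (f' i) ≤ bas U (f i.succ) := fun i => by
      show X.basicOpen _ ≤ X.basicOpen _
      simp [f']
    obtain ⟨xg, hxg, hxgu⟩ := IH Ug f' (span_res_eq_top (U' := Ug) (fun i => f i.succ) (fun i => c i.succ) le_rfl)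
      (fun i => rs F (le' i) (s i.succ)) fun i j W hi hj => by
        rw [rs_rs, rs_rs]
        exact hc i.succ j.succ W _ _
    let V := bas U (f 0 * g)
    have hV0 : V ≤ bas U (f 0) := by show X.basicOpen (f 0 * g) ≤ X.basicOpen (f 0); simp
    have hVg : V ≤ Ug := by show X.basicOpen (f 0 * g) ≤ X.basicOpen g; simp
    let f'' : Fin n → Γ(X, (V : X.Opens)) := fun i => X.presheaf.map (homOfLE (bas_le U (f 0 * g))).op (f i.succ)
    have le'' : ∀ i, bas V (f'' i) ≤ bas U (f i.succ) := fun i => by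
      show X.basicOpen _ ≤ X.basicOpen _
      simp [f'']
    have le3 : ∀ i, bas V (f'' i) ≤ bas Ug (f' i) := fun i => by
      show X.basicOpen (f'' i) ≤ X.basicOpen (f' i)
      simp only [f'', f', Scheme.basicOpen_res]
      exact inf_le_inf_right _ hVg
    have hagree : rs F hV0 (s 0) = rs F hVg xg := by
      obtain ⟨y, -, hyu⟩ := IH V f'' (span_res_eq_top (U' := V) (fun i => f i.succ) (fun i => c i.succ) hVg)
        (fun i => rs F (le'' i) (s i.succ)) fun i j W hi hj => by
          rw [rs_rs, rs_rs]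
          exact hc i.succ j.succ W _ _
      refine (hyu _ fun i => ?_).trans (hyu _ fun i => ?_).symm
      · rw [rs_rs]
        exact hc 0 i.succ _ _ _
      · have := congrArg (rs F (le3 i)) (hxg i)
        rw [rs_rs, rs_rs] at this
        rw [rs_rs]
        exact this
    obtain ⟨x, ⟨hx0, hxg'⟩, hxu⟩ := P.pair U (f 0) g hcover (s 0) xg hagree
    refine ⟨x, fun i => ?_, fun y hy => hxu y ⟨hy 0, hxgu _ fun i => ?_⟩⟩
    · refine Fin.cases hx0 (fun i => ?_) i
      -- cover `D(f_{i+1})` by `D(f_0)` and `D(g)`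
      let U' := bas U (f i.succ)
      let a := X.presheaf.map (homOfLE (bas_le U (f i.succ))).op (f 0)
      let b := X.presheaf.map (homOfLE (bas_le U (f i.succ))).op g
      have la : bas U' a ≤ bas U (f 0) := by show X.basicOpen a ≤ X.basicOpen (f 0); simp [a]
      have lb : bas U' b ≤ bas Ug (f' i) := by
        show X.basicOpen b ≤ X.basicOpen (f' i)
        simp only [b, f', Scheme.basicOpen_res]
        exact le_of_eq (inf_comm _ _)
      have hcov' : (U' : X.Opens) ≤ X.basicOpen a ⊔ X.basicOpen b := by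
        simp only [a, b, Scheme.basicOpen_res, ← inf_sup_left]
        exact le_inf le_rfl (le_trans (X.basicOpen_le (f i.succ)) hcover)
      obtain ⟨z, -, hzu⟩ := P.pair U' a b hcov' (rs F (bas_le U' a) (s i.succ)) (rs F (bas_le U' b) (s i.succ))
        (by rw [rs_rs, rs_rs])
      refine (hzu _ ⟨?_, ?_⟩).trans (hzu (s i.succ) ⟨rfl, rfl⟩).symm
      · have := congrArg (rs F la) hx0
        rw [rs_rs] at this
        rw [rs_rs]
        exact this.trans (hc 0 i.succ _ _ _)
      · have h1 := congrArg (rs F (lb.trans (bas_le Ug (f' i)))) hxg'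
        have h2 := congrArg (rs F lb) (hxg i)
        rw [rs_rs] at h1 h2
        rw [rs_rs] at h2
        rw [rs_rs]
        exact h1.trans h2
    · have := congrArg (rs F (le' i)) (hy i.succ)
      rw [rs_rs] at this
      rw [rs_rs]
      exact this

variable (X) in
/-- The inclusion of affine opens. -/
abbrev incl : X.affineOpens ⥤ X.Opens :=
  (Monotone.functor (f := fun U : X.affineOpens => (U : X.Opens)) (fun _ _ h => h))

instance : (incl X).Full where
  map_surjective g := ⟨homOfLE g.le, rfl⟩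

instance : (incl X).IsCoverDense (Opens.grothendieckTopology X) where
  is_cover U := by
    intro x hx
    obtain ⟨_, ⟨V, hV, rfl⟩, hxV, hVU⟩ := X.isBasis_affineOpens.exists_subset_of_mem_open hx U.2
    exact ⟨V, homOfLE hVU, ⟨⟨⟨V, hV⟩, 𝟙 _, homOfLE hVU, rfl⟩⟩, hxV⟩

theorem isSheaf (P : PairGlue F) :
    Presheaf.IsSheaf ((incl X).inducedTopology (Opens.grothendieckTopology X)) F := by
  rw [isSheaf_iff_isSheaf_of_type]
  intro U S hS x hx
  rw [Functor.mem_inducedTopology_iff_of_isCoverDense] at hS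
  have hloc : ∀ y : (U : X.Opens), ∃ f : Γ(X, (U : X.Opens)), y.1 ∈ X.basicOpen f ∧ S (homOfLE (bas_le U f)) := by
    rintro ⟨y, hy⟩
    obtain ⟨V, i, ⟨W, g, h, hg, -⟩, hyV⟩ := hS y hy
    obtain ⟨f, hf, hyf⟩ := U.2.exists_basicOpen_le (V := (W : X.Opens)) ⟨y, h.le hyV⟩ hy
    exact ⟨f, hyf, S.downward_closed hg (homOfLE (show bas U f ≤ W from hf))⟩
  let T : Set Γ(X, (U : X.Opens)) := {f | S (homOfLE (bas_le U f))}
  have hT : Ideal.span T = ⊤ := by
    refine U.2.self_le_iSup_basicOpen_iff.mp fun y hy => ?_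
    obtain ⟨f, hyf, hf⟩ := hloc ⟨y, hy⟩
    exact Opens.mem_iSup.mpr ⟨⟨f, hf⟩, hyf⟩
  obtain ⟨T', hT'T, hT'⟩ := (Ideal.span_eq_top_iff_finite T).mp hT
  let f : Fin T'.card → Γ(X, (U : X.Opens)) := fun i => (T'.equivFin.symm i).1
  have hfS : ∀ i, S (homOfLE (bas_le U (f i))) := fun i => hT'T (T'.equivFin.symm i).2
  have hf : Ideal.span (Set.range f) = ⊤ := by
    rw [← hT']
    congr 1
    ext y
    exact ⟨fun ⟨i, hi⟩ => hi ▸ (T'.equivFin.symm i).2, fun hy => ⟨T'.equivFin ⟨y, hy⟩, by simp [f]⟩⟩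
  have hcompat : ∀ {V W Z : X.affineOpens} (hV : V ≤ U) (hW : W ≤ U) (sV : S (homOfLE hV)) (sW : S (homOfLE hW))
      (h : Z ≤ V) (h' : Z ≤ W), rs F h (x _ sV) = rs F h' (x _ sW) :=
    fun hV hW sV sW h h' => hx (homOfLE h) (homOfLE h') sV sW rfl
  obtain ⟨z, hz, hzu⟩ := glue P _ U f hf (fun i => x _ (hfS i))
    fun i j W hi hj => hcompat _ _ (hfS i) (hfS j) hi hj
  refine ⟨z, fun V g hg => ?_, fun y hy => hzu y fun i => hy _ (hfS i)⟩
  have hVU : V ≤ U := g.le
  obtain rfl : g = homOfLE hVU := rfl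
  -- both sections agree on the basic opens of `V` cut out by the cover
  let f' : Fin T'.card → Γ(X, (V : X.Opens)) := fun i => X.presheaf.map (homOfLE (show (V : X.Opens) ≤ U from hVU)).op (f i)
  have le' : ∀ i, bas V (f' i) ≤ bas U (f i) := fun i => by
    show X.basicOpen _ ≤ X.basicOpen _
    simp [f']
  have hf' : Ideal.span (Set.range f') = ⊤ := by
    have := congrArg (Ideal.map (X.presheaf.map (homOfLE (show (V : X.Opens) ≤ U from hVU)).op).hom) hf
    rw [Ideal.map_span, Ideal.map_top, ← Set.range_comp] at this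
    exact this
  obtain ⟨w, -, hwu⟩ := glue P _ V f' hf' (fun i => rs F (le' i) (x _ (hfS i)))
    fun i j W hi hj => by rw [rs_rs, rs_rs]; exact hcompat _ _ (hfS i) (hfS j) _ _
  show rs F hVU z = x _ hg
  refine (hwu _ fun i => ?_).trans (hwu _ fun i => ?_).symm
  · have := congrArg (rs F (le' i)) (hz i)
    rw [rs_rs] at this
    rw [rs_rs]
    exact this
  · exact hcompat _ _ hg (hfS i) (bas_le V (f' i)) (le' i)

/-- A presheaf on affine opens with pair glueing comes from a sheaf. -/
theorem exists_sheaf (P : PairGlue F) :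
    ∃ G : TopCat.Sheaf (Type u) X.carrier, Nonempty ((incl X).op ⋙ G.1 ≅ F) := by
  let e := (incl X).sheafInducedTopologyEquivOfIsCoverDense (A := Type u) (Opens.grothendieckTopology X)
  exact ⟨e.functor.obj ⟨F, isSheaf P⟩, ⟨(sheafToPresheaf _ _).mapIso (e.unitIso.app ⟨F, isSheaf P⟩).symm⟩⟩

end Groth.L24.AffBasis
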