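import Groth.Agent.L24.AffBasis.Basic
import Mathlib.Topology.Sheaves.SheafCondition.UniqueGluing
import Mathlib.CategoryTheory.Limits.Types.Products

/-!
# Sheaves restrict to presheaves on affine opens with pair glueing
-/

set_option autoImplicit false
set_option linter.style.haveILetI false
set_option backward.isDefEq.respectTransparency.types false

universe u

open CategoryTheory CategoryTheory.Limits AlgebraicGeometry Opposite TopologicalSpace

namespace Groth.L24.AffBasis

variable {X : Scheme.{u}}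

theorem empty_of_sheaf (G : TopCat.Sheaf (Type u) X.carrier) (E : X.affineOpens) (hE : (E : X.Opens) = ⊥) :
    Nonempty (G.1.obj (op (E : X.Opens))) ∧ Subsingleton (G.1.obj (op (E : X.Opens))) := by
  let U := (Types.isTerminalEquivUnique _) (TopCat.Sheaf.isTerminalOfEqEmpty G hE)
  exact ⟨⟨U.default⟩, inferInstance⟩

theorem pair_of_sheaf (G : TopCat.Sheaf (Type u) X.carrier) {U V W VW : X.Opens} (hU : U ≤ V ⊔ W)
    (hV : V ≤ U) (hW : W ≤ U) (h1 : VW ≤ V) (h2 : VW ≤ W) (hVW : V ⊓ W ≤ VW) :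
    Function.Injective (fun s : G.1.obj (op U) => (G.1.map (homOfLE hV).op s, G.1.map (homOfLE hW).op s)) ∧
    Set.range (fun s : G.1.obj (op U) => (G.1.map (homOfLE hV).op s, G.1.map (homOfLE hW).op s)) =
      {p | G.1.map (homOfLE h1).op p.1 = G.1.map (homOfLE h2).op p.2} := by
  have hres : ∀ {A B C : X.Opens} (i : B ≤ A) (j : C ≤ B) (x : G.1.obj (op A)),
      G.1.map (homOfLE j).op (G.1.map (homOfLE i).op x) = G.1.map (homOfLE (j.trans i)).op x := fun i j x =>
    (ConcreteCategory.congr_hom (G.1.map_comp (homOfLE i).op (homOfLE j).op) x).symm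
  refine ⟨fun s t h => G.eq_of_locally_eq₂ (homOfLE hV) (homOfLE hW) hU s t (congrArg Prod.fst h)
    (congrArg Prod.snd h), ?_⟩
  refine Set.Subset.antisymm ?_ ?_
  · rintro _ ⟨s, rfl⟩
    show G.1.map (homOfLE h1).op (G.1.map (homOfLE hV).op s) = G.1.map (homOfLE h2).op (G.1.map (homOfLE hW).op s)
    rw [hres, hres]
  · rintro ⟨a, b⟩ (hab : G.1.map (homOfLE h1).op a = G.1.map (homOfLE h2).op b)
    let fam : ULift.{u} Bool → X.Opens := fun i => bif i.down then V else W
    let sf : ∀ i : ULift.{u} Bool, G.1.obj (op (fam i)) := fun i => match i with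
      | ⟨true⟩ => a
      | ⟨false⟩ => b
    obtain ⟨s, hs, -⟩ := TopCat.Sheaf.existsUnique_gluing' G fam U
      (fun i => match i with
        | ⟨true⟩ => homOfLE hV
        | ⟨false⟩ => homOfLE hW)
      (hU.trans (sup_le (le_iSup fam ⟨true⟩) (le_iSup fam ⟨false⟩))) sf (by
        rintro ⟨_ | _⟩ ⟨_ | _⟩
        · rfl
        · have := congrArg (G.1.map (homOfLE (show W ⊓ V ≤ VW by rw [inf_comm]; exact hVW)).op) hab.symm
          rw [hres, hres] at this
          exact this
        · have := congrArg (G.1.map (homOfLE hVW).op) hab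
          rw [hres, hres] at this
          exact this
        · rfl)
    exact ⟨s, Prod.ext (hs ⟨true⟩) (hs ⟨false⟩)⟩

theorem bas_mul_ge (U : X.affineOpens) (f g : Γ(X, (U : X.Opens))) :
    X.basicOpen f ⊓ X.basicOpen g ≤ X.basicOpen (f * g) := by simp

/-- A presheaf on affine opens comes from a sheaf iff pairs glue. -/
theorem exists_sheaf_iff (F : (X.affineOpens)ᵒᵖ ⥤ Type u) (E : X.affineOpens) (hE : (E : X.Opens) = ⊥) :
    (∃ G : TopCat.Sheaf (Type u) X.carrier, Nonempty ((incl X).op ⋙ G.1 ≅ F)) ↔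
    ((Nonempty (F.obj (op E)) ∧ Subsingleton (F.obj (op E))) ∧
      ∀ (U V W VW : X.affineOpens) (f g : Γ(X, (U : X.Opens))),
        (V : X.Opens) = X.basicOpen f → (W : X.Opens) = X.basicOpen g →
        (VW : X.Opens) = X.basicOpen (f * g) → (U : X.Opens) = (V : X.Opens) ⊔ (W : X.Opens) →
        ∀ (hV : V ≤ U) (hW : W ≤ U) (h1 : VW ≤ V) (h2 : VW ≤ W),
        Function.Injective (fun s : F.obj (op U) => (F.map (homOfLE hV).op s, F.map (homOfLE hW).op s)) ∧
        Set.range (fun s : F.obj (op U) => (F.map (homOfLE hV).op s, F.map (homOfLE hW).op s)) =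
          {p | F.map (homOfLE h1).op p.1 = F.map (homOfLE h2).op p.2}) := by
  constructor
  · rintro ⟨G, ⟨e⟩⟩
    let η : ∀ A : X.affineOpens, G.1.obj (op (A : X.Opens)) ≃ F.obj (op A) := fun A => (e.app (op A)).toEquiv
    have nat : ∀ {A B : X.affineOpens} (h : B ≤ A) (x : G.1.obj (op (A : X.Opens))),
        η B (G.1.map (homOfLE (show (B : X.Opens) ≤ A from h)).op x) = F.map (homOfLE h).op (η A x) :=
      fun h x => ConcreteCategory.congr_hom (e.hom.naturality (homOfLE h).op) x
    refine ⟨?_, fun U V W VW f g hVf hWg hVW hU hV hW h1 h2 => ?_⟩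
    · obtain ⟨⟨x⟩, hs⟩ := empty_of_sheaf G E hE
      exact ⟨⟨η E x⟩, (η E).symm.subsingleton⟩
    · obtain ⟨hinj, hran⟩ := pair_of_sheaf G (U := (U : X.Opens)) (V := (V : X.Opens)) (W := (W : X.Opens))
        (VW := (VW : X.Opens)) hU.le hV hW h1 h2 (by rw [hVf, hWg, hVW]; exact bas_mul_ge U f g)
      refine ⟨fun s t h => ?_, Set.Subset.antisymm ?_ fun p hp => ?_⟩
      · obtain ⟨s, rfl⟩ := (η U).surjective s
        obtain ⟨t, rfl⟩ := (η U).surjective t
        simp only [Prod.mk.injEq, ← nat] at h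
        exact congrArg (η U) (hinj (Prod.ext ((η V).injective h.1) ((η W).injective h.2)))
      · rintro _ ⟨s, rfl⟩
        show F.map (homOfLE h1).op (F.map (homOfLE hV).op s) = F.map (homOfLE h2).op (F.map (homOfLE hW).op s)
        exact (rs_rs F hV h1 s).trans (rs_rs F hW h2 s).symm
      · obtain ⟨a, ha⟩ := (η V).surjective p.1
        obtain ⟨b, hb⟩ := (η W).surjective p.2
        have hp' : F.map (homOfLE h1).op p.1 = F.map (homOfLE h2).op p.2 := hp
        rw [← ha, ← hb, ← nat, ← nat] at hp'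
        obtain ⟨s, hs⟩ := hran.ge (show (a, b) ∈ _ from (η VW).injective hp')
        refine ⟨η U s, Prod.ext ?_ ?_⟩
        · exact ((nat hV s).symm.trans (congrArg (η V) (congrArg Prod.fst hs))).trans ha
        · exact ((nat hW s).symm.trans (congrArg (η W) (congrArg Prod.snd hs))).trans hb
  · rintro ⟨hemp, hpair⟩
    refine exists_sheaf ⟨fun E' hE' => ?_, fun U f g hcov a b hab => ?_⟩
    · obtain rfl : E' = E := Subtype.ext (hE'.trans hE.symm)
      exact hemp
    · obtain ⟨hinj, hran⟩ := hpair U (bas U f) (bas U g) (bas U (f * g)) f g rfl rfl rfl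
        (le_antisymm hcov (sup_le (X.basicOpen_le f) (X.basicOpen_le g))) (bas_le U f) (bas_le U g) _ _
      obtain ⟨x, hx⟩ := hran.ge (show (a, b) ∈ _ from hab)
      exact ⟨x, ⟨congrArg Prod.fst hx, congrArg Prod.snd hx⟩,
        fun y hy => hinj ((Prod.ext hy.1 hy.2 : (_, _) = (a, b)).trans hx.symm)⟩

end Groth.L24.AffBasis
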